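import Groth.Prelude.Def_SGA7a
import Mathlib.FieldTheory.Galois.Infinite
import Mathlib.FieldTheory.IsSepClosed
import Mathlib.RingTheory.DedekindDomain.IntegralClosure
import Mathlib.RingTheory.RamificationInertia.Basic
import Mathlib.NumberTheory.RamificationInertia.Galois
import Mathlib.RingTheory.Invariant.Basic
import Mathlib.RingTheory.IsGaloisGroup.Basic
import Mathlib.RingTheory.Valuation.ValuationSubring
import Mathlib.RingTheory.DiscreteValuationRing.Basic
import Mathlib.RingTheory.Valuation.ValuationRing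
import Mathlib.RingTheory.Polynomial.RationalRoot
import Mathlib.RingTheory.Valuation.LocalSubring

/-!
# Tame layers when the whole Galois group is inertia

If every automorphism of the separable closure is inertia at `W`, units of `W` have roots of order
prime to the residue characteristic inside every layer, and a Galois layer of degree `r` prime to the
residue characteristic is totally ramified and contains an `r`-th root of a uniformiser.
-/

set_option autoImplicit false
universe u

namespace Groth.Agent.TameGal67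

variable {R K Ω : Type u} [CommRing R] [IsDomain R] [IsDiscreteValuationRing R] [Field K]
  [Algebra R K] [IsFractionRing R K] [Field Ω] [Algebra K Ω] [IsSepClosure K Ω] [Algebra R Ω]
  [IsScalarTower R K Ω] {W : ValuationSubring Ω}

theorem mem_of_isIntegral (hW : SGA7.LiesOver K R W) {y : Ω} (hy : IsIntegral R y) : y ∈ W := by
  let ρ : R →+* W := (algebraMap R Ω).codRestrict W.toSubring fun r => by
    rw [IsScalarTower.algebraMap_apply R K Ω]; exact hW.1 r
  letI : Algebra R W := ρ.toAlgebra
  haveI : IsScalarTower R W Ω := IsScalarTower.of_algebraMap_eq fun _ => rfl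
  obtain ⟨z, hz⟩ := IsIntegrallyClosed.isIntegral_iff.1 (hy.tower_top (A := W))
  rw [← hz]
  exact z.2

theorem natCast_not_mem (hW : SGA7.LiesOver K R W) {r : ℕ} (hrk : (r : IsLocalRing.ResidueField R) ≠ 0) :
    W.valuation (r : Ω) = 1 := by
  have hu : IsUnit (r : R) := by
    rw [← IsLocalRing.residue_ne_zero_iff_isUnit, map_natCast]; exact hrk
  obtain ⟨c, hc⟩ := isUnit_iff_exists_inv.1 hu
  have h1 : W.valuation (algebraMap R Ω (r : R)) * W.valuation (algebraMap R Ω c) = 1 := by
    rw [← map_mul, ← map_mul, hc, map_one, map_one]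
  have h2 : W.valuation (algebraMap R Ω c) ≤ 1 := (W.valuation_le_one_iff _).2
    (by rw [IsScalarTower.algebraMap_apply R K Ω]; exact hW.1 c)
  rw [map_natCast] at h1
  refine le_antisymm ((W.valuation_le_one_iff _).2 (natCast_mem W r)) ?_
  calc (1 : W.ValueGroup) = _ := h1.symm
    _ ≤ W.valuation (r : Ω) * 1 := mul_le_mul' le_rfl h2
    _ = _ := mul_one _

theorem ne_zero_cast (hW : SGA7.LiesOver K R W) {r : ℕ} (hrk : (r : IsLocalRing.ResidueField R) ≠ 0) :
    (r : Ω) ≠ 0 := fun h => by
  have h1 := natCast_not_mem (K := K) hW hrk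
  rw [h, map_zero] at h1
  exact zero_ne_one h1

/-- a root of unity of order prime to `p` congruent to one is one -/
theorem eq_one_of_pow (hW : SGA7.LiesOver K R W) {r : ℕ} (hrk : (r : IsLocalRing.ResidueField R) ≠ 0)
    {ζ : Ω} (hζ : ζ ^ r = 1) (hv : W.valuation (ζ - 1) < 1) : ζ = 1 := by
  by_contra hne
  have hmem : ζ - 1 ∈ W := (W.valuation_le_one_iff _).1 hv.le
  let z : W := ⟨ζ - 1, hmem⟩ + 1
  have hz : (z : Ω) = ζ := sub_add_cancel ζ 1
  have hres : IsLocalRing.residue W z = 1 := by
    have : IsLocalRing.residue W (⟨ζ - 1, hmem⟩ : W) = 0 :=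
      (IsLocalRing.residue_eq_zero_iff _).2 ((W.valuation_lt_one_iff _).2 hv)
    rw [map_add, this, map_one, zero_add]
  have hsum : (∑ i ∈ Finset.range r, z ^ i) = 0 := by
    have h1 : (∑ i ∈ Finset.range r, z ^ i) * (z - 1) = 0 := by
      rw [geom_sum_mul, sub_eq_zero]
      exact Subtype.ext (by rw [SubmonoidClass.coe_pow, hz, hζ]; rfl)
    exact (mul_eq_zero.1 h1).resolve_right (sub_ne_zero.2 fun h => hne (by rw [← hz, h]; rfl))
  have h2 := congrArg (IsLocalRing.residue W) hsum
  rw [map_sum, map_zero] at h2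
  simp only [map_pow, hres, one_pow, Finset.sum_const, Finset.card_range, nsmul_one] at h2
  rw [← map_natCast (IsLocalRing.residue W), IsLocalRing.residue_eq_zero_iff] at h2
  have h3 := (W.valuation_lt_one_iff _).1 h2
  rw [show ((r : W) : Ω) = (r : Ω) from map_natCast W.subtype r, natCast_not_mem (K := K) hW hrk] at h3
  exact lt_irrefl _ h3

variable (hW : SGA7.LiesOver K R W) (hI : ∀ σ : Ω ≃ₐ[K] Ω, SGA7.IsInertia W σ)

include hW hI in
/-- an `r`-th root of an element of a layer which is a unit of `W` lies in that layer -/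
theorem root_mem {r : ℕ} (hrk : (r : IsLocalRing.ResidueField R) ≠ 0)
    (L : IntermediateField K Ω) {x : Ω} (hx : x ^ r ∈ L) (hv : W.valuation x = 1) : x ∈ L := by
  haveI : IsGalois K Ω :=
    { to_isSeparable := IsSepClosure.separable, to_normal := inferInstance }
  have hx0 : x ≠ 0 := fun h => by rw [h, map_zero] at hv; exact zero_ne_one hv
  rw [← InfiniteGalois.fixedField_fixingSubgroup L, IntermediateField.mem_fixedField_iff]
  intro σ hσ
  rw [IntermediateField.mem_fixingSubgroup_iff] at hσ
  obtain ⟨-, h2⟩ := hI σ x ((W.valuation_le_one_iff _).1 hv.le)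
  have h4 : σ x / x = 1 := by
    refine eq_one_of_pow (K := K) hW hrk ?_ ?_
    · rw [div_pow, ← map_pow, hσ _ hx, div_self (pow_ne_zero _ hx0)]
    · rw [div_sub_one hx0, map_div₀, hv, div_one]; exact h2
  exact (div_eq_one_iff_eq hx0).1 h4

include hW hI in
theorem rootOfUnity_mem {r : ℕ} (hr : r ≠ 0) (hrk : (r : IsLocalRing.ResidueField R) ≠ 0)
    (L : IntermediateField K Ω) {ζ : Ω} (hζ : ζ ^ r = 1) : ζ ∈ L := by
  refine root_mem hW hI hrk L (by rw [hζ]; exact one_mem L) ?_
  exact (pow_eq_one_iff.1 (by rw [← map_pow, hζ, map_one])).resolve_right hr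

include hW hI in
/-- a Galois layer of degree prime to `p` is totally ramified and contains a root of a uniformiser -/
theorem layer (L : IntermediateField K Ω) [FiniteDimensional K L] [IsGalois K L]
    {r : ℕ} (hr : r ≠ 0) (hrk : (r : IsLocalRing.ResidueField R) ≠ 0) (hdeg : Module.finrank K L = r)
    {p : R} (hp : Irreducible p) :
    (∀ P : Ideal (integralClosure R L), P.IsMaximal → P.ramificationIdx R = r) ∧
      ∃ y ∈ L, y ^ r = algebraMap R Ω p := by
  classical
  haveI : IsScalarTower R L Ω := IsScalarTower.of_algebraMap_eq fun a => by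
    rw [IsScalarTower.algebraMap_apply R K Ω, IsScalarTower.algebraMap_apply R K L]; rfl
  haveI : SMulCommClass Gal(L/K) R L := ⟨fun g a x => by
    show g (a • x) = a • g x
    rw [← algebraMap_smul K a x, ← algebraMap_smul K a (g x), map_smul]⟩
  haveI : Algebra.IsSeparable K L := inferInstance
  let B := integralClosure R L
  haveI : Module.Finite R B := IsIntegralClosure.finite R K L B
  haveI : IsDedekindDomain B := integralClosure.isDedekindDomain R K L
  haveI : IsFractionRing B L := IsIntegralClosure.isFractionRing_of_finite_extension R K L B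
  haveI : FaithfulSMul R B := (faithfulSMul_iff_algebraMap_injective R B).2 (Function.Injective.of_comp
    (f := B.val) (by
      show Function.Injective (algebraMap R L)
      rw [IsScalarTower.algebraMap_eq R K L]
      exact (algebraMap K L).injective.comp (IsFractionRing.injective R K)))
  haveI : IsGaloisGroup Gal(L/K) R B := IsGaloisGroup.of_isFractionRing _ R B K L
  let ψ : B →+* W := ((algebraMap L Ω).comp B.val.toRingHom).codRestrict W.toSubring fun b =>
    mem_of_isIntegral hW ((b.2).map (IsScalarTower.toAlgHom R L Ω))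
  let P₀ : Ideal B := (IsLocalRing.maximalIdeal W).comap ψ
  have hmem : ∀ b : B, b ∈ P₀ ↔ W.valuation ((b : L) : Ω) < 1 := fun b => W.valuation_lt_one_iff (ψ b)
  haveI : P₀.LiesOver (IsLocalRing.maximalIdeal R) := ⟨by
    refine (IsLocalRing.maximalIdeal.isMaximal R).eq_of_le
      (Ideal.IsPrime.ne_top (Ideal.IsPrime.comap (algebraMap R B))) fun a ha => ?_
    rw [Ideal.under_def, Ideal.mem_comap, hmem]
    show W.valuation (algebraMap L Ω (algebraMap R L a)) < 1
    rw [← IsScalarTower.algebraMap_apply, IsScalarTower.algebraMap_apply R K Ω]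
    exact hW.2 a ha⟩
  haveI : P₀.IsMaximal := Ideal.IsMaximal.of_liesOver_isMaximal P₀ (IsLocalRing.maximalIdeal R)
  have hg : ∀ (g : Gal(L/K)) (b : B), g • b - b ∈ P₀ := fun g b => by
    rw [hmem]
    have h1 : g.liftNormal Ω (algebraMap L Ω (b : L)) = algebraMap L Ω (g (b : L)) :=
      g.liftNormal_commutes Ω _
    have h2 := (hI (g.liftNormal Ω) _ (ψ b).2).2
    show W.valuation (algebraMap L Ω (g (b : L) - (b : L))) < 1
    rw [map_sub, ← h1]
    exact h2
  have huniq : ∀ Q : Ideal B, Q.IsMaximal → Q = P₀ := fun Q hQ => by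
    haveI : Q.LiesOver (IsLocalRing.maximalIdeal R) :=
      ⟨(IsLocalRing.eq_maximalIdeal (Ideal.isMaximal_comap_of_isIntegral_of_isMaximal Q)).symm⟩
    obtain ⟨g, hgQ⟩ := Algebra.IsInvariant.exists_smul_of_under_eq R B Gal(L/K) P₀ Q
      ((P₀.over_def (IsLocalRing.maximalIdeal R)).symm.trans (Q.over_def (IsLocalRing.maximalIdeal R)))
    rw [hgQ]
    ext b
    rw [Ideal.pointwise_smul_def, ← inv_smul_smul g b] at *
    constructor
    · intro hb
      rw [← Ideal.pointwise_smul_def, Ideal.mem_pointwise_smul_iff_inv_smul_mem] at hb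
      have := P₀.add_mem (hg g (g⁻¹ • b)) hb
      simpa using this
    · intro hb
      rw [← Ideal.pointwise_smul_def, Ideal.mem_pointwise_smul_iff_inv_smul_mem]
      simpa using P₀.add_mem (hg g⁻¹ b) hb
  -- residue degree one
  have hres : Function.Surjective (algebraMap (R ⧸ IsLocalRing.maximalIdeal R) (B ⧸ P₀)) := by
    intro q
    obtain ⟨b, rfl⟩ := Ideal.Quotient.mk_surjective q
    obtain ⟨a, ha⟩ := Algebra.IsInvariant.isInvariant (A := R) (G := Gal(L/K)) (∑ g : Gal(L/K), g • b)
      (fun g => by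
        rw [Finset.smul_sum]
        exact Fintype.sum_equiv (Equiv.mulLeft g) _ _ fun h => smul_smul g h b)
    obtain ⟨c, hc⟩ := isUnit_iff_exists_inv.1
      (show IsUnit (r : R) by rw [← IsLocalRing.residue_ne_zero_iff_isUnit, map_natCast]; exact hrk)
    refine ⟨Ideal.Quotient.mk _ (a * c), ?_⟩
    rw [Ideal.Quotient.algebraMap_mk_of_liesOver]
    have hcard : Fintype.card Gal(L/K) = r := by
      rw [← Nat.card_eq_fintype_card, IsGalois.card_aut_eq_finrank, hdeg]
    have h1 : Ideal.Quotient.mk P₀ (algebraMap R B a) = (r : B ⧸ P₀) * Ideal.Quotient.mk P₀ b := by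
      rw [ha, map_sum, Finset.sum_congr rfl fun g _ => (Ideal.Quotient.mk_eq_mk_iff_sub_mem _ b).2 (hg g b),
        Finset.sum_const, Finset.card_univ, hcard, nsmul_eq_mul]
    have h2 : (r : B ⧸ P₀) * Ideal.Quotient.mk P₀ (algebraMap R B c) = 1 := by
      rw [← map_natCast (Ideal.Quotient.mk P₀), ← map_mul, ← map_natCast (algebraMap R B), ← map_mul, hc,
        map_one, map_one]
    rw [map_mul, map_mul, h1, mul_right_comm, h2, one_mul]
  have he : P₀.ramificationIdx R = r := by
    haveI : Fintype ((IsLocalRing.maximalIdeal R).primesOver B) :=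
      (Algebra.QuasiFinite.finite_primesOver _).fintype
    have hsum := Ideal.sum_ramification_inertia_eq_card (IsLocalRing.maximalIdeal R) B (G := Gal(L/K))
    rw [IsGalois.card_aut_eq_finrank, hdeg] at hsum
    haveI hsub : Subsingleton ((IsLocalRing.maximalIdeal R).primesOver B) := ⟨fun a b => Subtype.ext <| by
      haveI := a.2.1; haveI := a.2.2; haveI := b.2.1; haveI := b.2.2
      rw [huniq a.1 (Ideal.IsMaximal.of_liesOver_isMaximal a.1 (IsLocalRing.maximalIdeal R)),
        huniq b.1 (Ideal.IsMaximal.of_liesOver_isMaximal b.1 (IsLocalRing.maximalIdeal R))]⟩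
    rw [Fintype.sum_subsingleton _ ⟨P₀, inferInstance, inferInstance⟩] at hsum
    have hf : P₀.inertiaDeg R = 1 := by
      rw [Ideal.inertiaDeg_eq_of_isMaximal (IsLocalRing.maximalIdeal R) P₀]
      letI : Field (R ⧸ IsLocalRing.maximalIdeal R) := Ideal.Quotient.field _
      let e : (R ⧸ IsLocalRing.maximalIdeal R) ≃ₗ[R ⧸ IsLocalRing.maximalIdeal R] (B ⧸ P₀) :=
        LinearEquiv.ofBijective (Algebra.linearMap _ _) ⟨(algebraMap (R ⧸ IsLocalRing.maximalIdeal R) (B ⧸ P₀)).injective, hres⟩
      rw [← e.finrank_eq, Module.finrank_self]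
    rwa [hf, mul_one] at hsum
  refine ⟨fun P hP => by rw [huniq P hP, he], ?_⟩
  -- the root of the uniformiser
  haveI : IsLocalRing B := IsLocalRing.of_unique_max_ideal ⟨P₀, inferInstance, huniq⟩
  have hP₀ : IsLocalRing.maximalIdeal B = P₀ := huniq _ inferInstance
  have hp0 : algebraMap R B p ≠ 0 :=
    (map_ne_zero_iff _ (FaithfulSMul.algebraMap_injective R B)).2 hp.ne_zero
  have hP0 : P₀ ≠ ⊥ := fun hbot => hp0 (by
    rw [← Ideal.mem_bot, ← hbot, ← Ideal.mem_comap, ← Ideal.under_def,
      ← P₀.over_def (IsLocalRing.maximalIdeal R)]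
    exact hp.not_isUnit)
  haveI : IsDiscreteValuationRing B :=
    { __ := ‹IsLocalRing B›, __ := (inferInstance : IsPrincipalIdealRing B),
      not_a_field' := hP₀ ▸ hP0 }
  obtain ⟨t, ht⟩ := IsDiscreteValuationRing.exists_irreducible B
  obtain ⟨n, v, hn⟩ := IsDiscreteValuationRing.eq_unit_mul_pow_irreducible hp0 ht
  have hspan : P₀ = Ideal.span {t} := by rw [← hP₀]; exact ht.maximalIdeal_eq
  have hmap : (IsLocalRing.maximalIdeal R).map (algebraMap R B) = P₀ ^ n := by
    rw [hp.maximalIdeal_eq, Ideal.map_span, Set.image_singleton, hspan, Ideal.span_singleton_pow, hn,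
      Ideal.span_singleton_mul_left_unit v.isUnit]
  have hn_eq : n = r := by
    rw [← he, ← Ideal.ramificationIdx'_eq_ramificationIdx (IsLocalRing.maximalIdeal R) P₀
      (IsDiscreteValuationRing.not_a_field R)]
    refine (Ideal.ramificationIdx'_spec hmap.le fun h => ?_).symm
    rw [hmap] at h
    exact (Ideal.pow_succ_lt_pow hP0 n).not_ge h
  obtain ⟨z, hz⟩ : ∃ z : Ω, z ^ r = ((v : B) : L) := by
    haveI : IsSepClosed Ω := IsSepClosure.sep_closed K
    haveI : NeZero (r : Ω) := ⟨ne_zero_cast (K := K) hW hrk⟩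
    exact IsSepClosed.exists_pow_nat_eq _ r
  have hv1 : W.valuation (((v : B) : L) : Ω) = 1 := by
    refine le_antisymm ((W.valuation_le_one_iff _).2 (ψ v).2) (not_lt.1 fun h => ?_)
    exact (IsLocalRing.maximalIdeal.isMaximal B).ne_top
      (Ideal.eq_top_of_isUnit_mem _ (hP₀ ▸ (hmem _).2 h) v.isUnit)
  have hzL : z ∈ L := root_mem hW hI hrk L (by rw [hz]; exact SetLike.coe_mem _)
    ((pow_eq_one_iff.1 (by rw [← map_pow, hz, hv1])).resolve_right hr)
  refine ⟨z * ((t : L) : Ω), mul_mem hzL (SetLike.coe_mem _), ?_⟩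
  have h3 : algebraMap R Ω p = algebraMap L Ω ((algebraMap R B p : B) : L) := by
    show _ = algebraMap L Ω (algebraMap R L p)
    rw [← IsScalarTower.algebraMap_apply]
  rw [h3, hn, hn_eq, mul_pow, hz]
  rfl

end Groth.Agent.TameGal67
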